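import Groth.Agent.Lib.OX.SingleDegree
import Groth.Agent.Lib.FPThick13.Basic
import Groth.Agent.Lib.FunFlat8.FreeGen
import Mathlib.FieldTheory.IsAlgClosed.AlgebraicClosure

/-!
# Locally split monomorphisms and fibres
-/

universe u

open CategoryTheory CategoryTheory.Limits AlgebraicGeometry Opposite TopologicalSpace

set_option backward.isDefEq.respectTransparency false
set_option linter.style.haveILetI false
set_option maxHeartbeats 800000

noncomputable section

namespace GrothLib.LocSplitMono29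

variable {X : Scheme.{u}}

/-- A morphism of modules that has a retraction locally. -/
def LocSplit {F V : X.Modules} (u : F ⟶ V) : Prop :=
  ∀ x : X, ∃ U : X.Opens, x ∈ U ∧
    ∃ r : (Scheme.Modules.pullback U.ι).obj V ⟶ (Scheme.Modules.pullback U.ι).obj F,
      (Scheme.Modules.pullback U.ι).map u ≫ r = 𝟙 _

theorem split_transfer {C D : Type*} [Category C] [Category D] {G H : C ⥤ D} (α : G ≅ H) {A B : C} (u : A ⟶ B)
    (h : ∃ r : H.obj B ⟶ H.obj A, H.map u ≫ r = 𝟙 _) : ∃ r : G.obj B ⟶ G.obj A, G.map u ≫ r = 𝟙 _ := by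
  obtain ⟨r, hr⟩ := h
  refine ⟨α.hom.app B ≫ r ≫ α.inv.app A, ?_⟩
  rw [α.hom.naturality_assoc u, reassoc_of% hr, Iso.hom_inv_id_app]

theorem split_map {C D : Type*} [Category C] [Category D] (G : C ⥤ D) {A B : C} (u : A ⟶ B)
    (h : ∃ r : B ⟶ A, u ≫ r = 𝟙 _) : ∃ r : G.obj B ⟶ G.obj A, G.map u ≫ r = 𝟙 _ := by
  obtain ⟨r, hr⟩ := h
  exact ⟨G.map r, by rw [← G.map_comp, hr, G.map_id]⟩

theorem LocSplit.pullback {F V : X.Modules} {u : F ⟶ V} (h : LocSplit u) {Z : Scheme.{u}} (p : Z ⟶ X) :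
    LocSplit ((Scheme.Modules.pullback p).map u) := by
  intro z
  obtain ⟨U, hU, hr⟩ := h (p z)
  refine ⟨p ⁻¹ᵁ U, hU, ?_⟩
  have h2 := split_map (Scheme.Modules.pullback (p ∣_ U)) _ hr
  exact split_transfer (Scheme.Modules.pullbackComp (p ⁻¹ᵁ U).ι p ≪≫
    Scheme.Modules.pullbackCongr (morphismRestrict_ι p U).symm ≪≫
    (Scheme.Modules.pullbackComp (p ∣_ U) U.ι).symm) u h2

theorem isField_stalk_spec (K : Type u) [Field K] (x : Spec (CommRingCat.of K)) :
    IsField ((Spec (CommRingCat.of K)).presheaf.stalk x) := by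
  have hle : x.asIdeal.primeCompl ≤ IsUnit.submonoid K := by
    intro a ha
    refine isUnit_iff_ne_zero.2 fun h0 => ha ?_
    rw [h0]
    exact Ideal.zero_mem _
  have hK : IsField (Localization.AtPrime x.asIdeal) :=
    MulEquiv.isField (Field.toIsField K) (IsLocalization.atUnits K x.asIdeal.primeCompl hle).toRingEquiv.toMulEquiv.symm
  exact MulEquiv.isField hK (Spec.stalkIso (CommRingCat.of K) x).commRingCatIsoToRingEquiv.toMulEquiv

/-- Passing from an open immersion to its image. -/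
theorem split_of_openImmersion {W : Scheme.{u}} (j : W ⟶ X) [IsOpenImmersion j] {F V : X.Modules} (u : F ⟶ V)
    (h : ∃ r, (Scheme.Modules.restrictFunctor j).map u ≫ r = 𝟙 _) :
    ∃ r : (Scheme.Modules.pullback j.opensRange.ι).obj V ⟶ (Scheme.Modules.pullback j.opensRange.ι).obj F,
      (Scheme.Modules.pullback j.opensRange.ι).map u ≫ r = 𝟙 _ := by
  have h1 := split_transfer (Scheme.Modules.restrictFunctorIsoPullback j).symm u h
  have h2 := split_map (Scheme.Modules.pullback j.isoOpensRange.inv) _ h1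
  refine split_transfer ((Scheme.Modules.pullbackComp j.isoOpensRange.inv j ≪≫
    Scheme.Modules.pullbackCongr ?_).symm) u h2
  rw [Iso.inv_comp_eq, Scheme.Hom.isoOpensRange_hom_ι]

/-- The last step: near a point where the kernel of the cover vanishes the map is split. -/
theorem exists_split_of_section {A F B Q : X.Modules} (p : A ⟶ F) [Epi p] (u : F ⟶ B) (π : B ⟶ Q) [Epi π]
    (hz : u ≫ π = 0) (hex : (ShortComplex.mk u π hz).Exact) (s : Q ⟶ B) (hs : s ≫ π = 𝟙 Q)
    (hA : FlatMod.IsFinLocFree A) (hB : FlatMod.IsFinLocFree B) (hQ : FlatMod.IsFinLocFree Q)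
    (x : X) (hm : Mono ((OX.stalk x).map u)) :
    ∃ (W : Scheme.{u}) (j : W ⟶ X) (_ : IsOpenImmersion j), x ∈ Set.range j ∧
      ∃ r, (Scheme.Modules.restrictFunctor j).map u ≫ r = 𝟙 _ := by
  let e : F ⟶ kernel π := kernel.lift π u hz
  haveI : Epi e := (ShortComplex.exact_iff_epi_kernel_lift _).1 hex
  let ret : B ⟶ kernel π :=
    kernel.lift _ (𝟙 _ - π ≫ s) (by
      rw [Preadditive.sub_comp, Category.id_comp, Category.assoc, hs, Category.comp_id, sub_self])
  have her : u ≫ ret = e := by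
    rw [← cancel_mono (kernel.ι π), Category.assoc, kernel.lift_ι, kernel.lift_ι,
      Preadditive.comp_sub, reassoc_of% hz, zero_comp, sub_zero, Category.comp_id]
  have hK : FlatMod.IsFinLocFree (kernel π) := OX.isFinLocFree_kernel _ hB hQ
  have hL : FlatMod.IsFinLocFree (kernel (p ≫ e)) := OX.isFinLocFree_kernel _ hA hK
  let k := kernel.ι (p ≫ e)
  have hkz : (k ≫ p) ≫ u = 0 := by
    rw [← kernel.lift_ι π u hz]
    have h1 : (k ≫ p) ≫ e = 0 := by rw [Category.assoc]; exact kernel.condition _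
    rw [← Category.assoc, h1, zero_comp]
  have hst : (OX.stalk x).map (k ≫ p) = 0 := by
    haveI := hm
    rw [← cancel_mono ((OX.stalk x).map u), zero_comp, ← Functor.map_comp, hkz, Functor.map_zero]
  obtain ⟨W, j, hj, hx, h3⟩ := OX.exists_restrict_hom_eq_zero hL (k ≫ p) x hst
  let R := Scheme.Modules.restrictFunctor j
  have hex3 : (ShortComplex.mk (R.map k) (R.map (p ≫ e))
      (by rw [← R.map_comp, kernel.condition, R.map_zero])).Exact :=
    (ShortComplex.exact_of_f_is_kernel (ShortComplex.mk k (p ≫ e) (kernel.condition _))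
      (kernelIsKernel _)).map R
  haveI : Epi (R.map (p ≫ e)) := inferInstance
  haveI : Epi (R.map p) := inferInstance
  obtain ⟨r₀, hr₀⟩ := hex3.desc' (R.map p) ((R.map_comp k p).symm.trans h3)
  refine ⟨W, j, hj, hx, R.map ret ≫ r₀, ?_⟩
  rw [← cancel_epi (R.map p), ← Category.assoc (R.map u), ← R.map_comp, her,
    ← Category.assoc, ← R.map_comp, Category.comp_id]
  exact hr₀

/-- A morphism with a module of finite type as source and a free target that is split at a stalk is split nearby. -/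
theorem exists_split_of_stalk {F : X.Modules} {m n : ℕ} (p : FlatMod.freeMod X m ⟶ F) [Epi p]
    (u : F ⟶ FlatMod.freeMod X n) (x : X)
    (l : (OX.stalk x).obj (FlatMod.freeMod X n) →ₗ[X.presheaf.stalk x] (OX.stalk x).obj F)
    (hl : l.comp ((OX.stalk x).map u).hom = LinearMap.id) :
    ∃ (W : Scheme.{u}) (j : W ⟶ X) (_ : IsOpenImmersion j), x ∈ Set.range j ∧
      ∃ r, (Scheme.Modules.restrictFunctor j).map u ≫ r = 𝟙 _ := by
  have hflat := OX.flat_stalk_cokernel u x (OX.finite_stalk (Iso.refl (FlatMod.freeMod X n)) x).1 l hl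
  have hw : (p ≫ u) ≫ cokernel.π u = 0 := by rw [Category.assoc, cokernel.condition, comp_zero]
  haveI : Epi (cokernel.π u) := coequalizer.π_epi
  have hS : (ShortComplex.mk (p ≫ u) (cokernel.π u) hw).Exact := by
    have h0 : (ShortComplex.mk u (cokernel.π u) (cokernel.condition u)).Exact :=
      ShortComplex.exact_of_g_is_cokernel _ (cokernelIsCokernel u)
    let φ : ShortComplex.mk (p ≫ u) (cokernel.π u) hw ⟶ ShortComplex.mk u (cokernel.π u) (cokernel.condition u) :=
      ShortComplex.homMk p (𝟙 _) (𝟙 _) (by simp) (by simp)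
    haveI : Epi φ.τ₁ := inferInstanceAs (Epi p)
    haveI : IsIso φ.τ₂ := inferInstanceAs (IsIso (𝟙 _))
    haveI : Mono φ.τ₃ := inferInstanceAs (Mono (𝟙 _))
    exact (ShortComplex.exact_iff_of_epi_of_isIso_of_mono φ).2 h0
  have hm : Mono ((OX.stalk x).map u) := (ModuleCat.mono_iff_injective _).2
    (Function.LeftInverse.injective (g := l) fun z => LinearMap.congr_fun hl z)
  obtain ⟨U, j, hj, r, ⟨y, hy⟩, ⟨q⟩⟩ := OX.exists_restrict_free_of_flat_at (p ≫ u) (cokernel.π u) hw hS
    (OX.isFinLocFree_freeMod X m) x hflat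
  subst hy
  let R := Scheme.Modules.restrictFunctor j
  have hm1 : Mono ((OX.stalk y).map (R.map u)) := OX.mono_stalk_restrict j y u hm
  have hQ : FlatMod.IsFinLocFree (R.obj (cokernel u)) :=
    DCoh.isFinLocFree_of_iso q.symm (OX.isFinLocFree_freeMod U r)
  obtain ⟨U₂, j₂, hj₂, s, ⟨y₂, hy₂⟩, hs⟩ := OX.exists_local_lift hQ (R.map (cokernel.π u)) (𝟙 _) y
  subst hy₂
  let R₂ := Scheme.Modules.restrictFunctor j₂
  have hm2 : Mono ((OX.stalk y₂).map (R₂.map (R.map u))) := OX.mono_stalk_restrict j₂ y₂ (R.map u) hm1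
  haveI h1 : Epi (R.map (cokernel.π u)) := inferInstance
  haveI h2 : Epi (R₂.map (R.map (cokernel.π u))) := inferInstance
  haveI h3 : Epi (R.map p) := inferInstance
  haveI h4 : Epi (R₂.map (R.map p)) := inferInstance
  have hz : R₂.map (R.map u) ≫ R₂.map (R.map (cokernel.π u)) = 0 := by
    rw [← R₂.map_comp, ← R.map_comp, cokernel.condition, R.map_zero, R₂.map_zero]
  have hexG : (ShortComplex.mk (R₂.map (R.map u)) (R₂.map (R.map (cokernel.π u))) hz).Exact :=
    ((ShortComplex.exact_of_g_is_cokernel (ShortComplex.mk u (cokernel.π u) (cokernel.condition u))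
      (cokernelIsCokernel u)).map R).map R₂
  have hfree : ∀ (k : ℕ), FlatMod.IsFinLocFree (R₂.obj (R.obj (FlatMod.freeMod X k))) := fun k =>
    OX.isFinLocFree_restrict j₂ (OX.isFinLocFree_restrict j (OX.isFinLocFree_freeMod X k))
  obtain ⟨U₃, j₃, hj₃, ⟨z, hzj⟩, hH⟩ := exists_split_of_section (R₂.map (R.map p)) (R₂.map (R.map u))
    (R₂.map (R.map (cokernel.π u))) hz hexG s (hs.trans (R₂.map_id _)) (hfree m) (hfree n)
    (OX.isFinLocFree_restrict j₂ hQ) y₂ hm2
  refine ⟨U₃, (j₃ ≫ j₂) ≫ j, inferInstance, ⟨z, by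
    rw [Scheme.Hom.comp_apply, Scheme.Hom.comp_apply, hzj]⟩, ?_⟩
  refine split_transfer (Scheme.Modules.restrictFunctorComp (j₃ ≫ j₂) j) u ?_
  exact split_transfer (Scheme.Modules.restrictFunctorComp j₃ j₂) (R.map u) hH

/-- Injectivity on a fibre gives a local retraction. -/
theorem exists_split_of_fib {F V : X.Modules} (u : F ⟶ V) (hF : Coh.IsQCoh F) (hFt : CohB1.IsFT F)
    (hV : FlatMod.IsFinLocFree V) {T : Scheme.{u}} [Subsingleton T] (g : T ⟶ X) (t : T)
    (hT : IsField (T.presheaf.stalk t)) (hmono : Mono ((OX.fib g t).map u)) :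
    ∃ U : X.Opens, g t ∈ U ∧ ∃ r : (Scheme.Modules.pullback U.ι).obj V ⟶ (Scheme.Modules.pullback U.ι).obj F,
      (Scheme.Modules.pullback U.ι).map u ≫ r = 𝟙 _ := by
  haveI : F.IsQuasicoherent := hF
  obtain ⟨U₁, m, p, hx₁, hp⟩ := FPThick13.exists_free_epi F hFt (g t)
  haveI := hp
  let R₁ := Scheme.Modules.restrictFunctor U₁.ι
  obtain ⟨U₂, n, hx₂, ⟨b⟩⟩ := OX.isFinLocFree_restrict U₁.ι hV (⟨g t, hx₁⟩ : U₁.toScheme)
  let R₂ := Scheme.Modules.restrictFunctor U₂.ι
  let j := U₂.ι ≫ U₁.ι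
  let c := Scheme.Modules.restrictFunctorComp U₂.ι U₁.ι
  let R := Scheme.Modules.restrictFunctor j
  obtain ⟨g', hg'⟩ := OX.exists_lift_point g t j ⟨⟨⟨g t, hx₁⟩, hx₂⟩, rfl⟩
  let p' : FlatMod.freeMod U₂.toScheme m ⟶ R.obj F :=
    (DCoh.restrictFreeModIso U₂.ι m).inv ≫ R₂.map p ≫ c.inv.app F
  haveI : Epi p' := by
    haveI : Epi (R₂.map p) := inferInstance
    infer_instance
  let e : R.obj V ≅ FlatMod.freeMod U₂.toScheme n := c.app V ≪≫ b
  let u' := R.map u ≫ e.hom
  haveI := hmono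
  have hm : Mono ((OX.fib g' t).map u') := by
    haveI : Mono ((OX.fib g' t).map (R.map u)) :=
      ((MorphismProperty.monomorphisms _).arrow_mk_iso_iff
        (Arrow.isoMk ((OX.fibResIso j g' g hg' t).app F) ((OX.fibResIso j g' g hg' t).app V)
          ((OX.fibResIso j g' g hg' t).hom.naturality u).symm)).2 hmono
    rw [Functor.map_comp]
    infer_instance
  let y := g' t
  haveI : Module.Finite (U₂.toScheme.presheaf.stalk y) ((OX.stalk y).obj (R.obj F)) := by
    haveI := (OX.finite_stalk (Iso.refl (FlatMod.freeMod U₂.toScheme m)) y).2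
    exact Module.Finite.of_surjective ((OX.stalk y).map p').hom ((ModuleCat.epi_iff_surjective _).1 inferInstance)
  obtain ⟨hfree, hfin⟩ := OX.finite_stalk (Iso.refl (FlatMod.freeMod U₂.toScheme n)) y
  haveI := OX.isLocalHom_stalkMap g' t
  obtain ⟨l, hl⟩ := ModFibre.split_of_extendScalars_injective _ hT ((OX.stalk y).map u')
    ((ModuleCat.mono_iff_injective _).1 (((MorphismProperty.monomorphisms _).arrow_mk_iso_iff
      (Arrow.isoMk ((OX.pullStalkIso g' t).app (R.obj F)) ((OX.pullStalkIso g' t).app (FlatMod.freeMod U₂.toScheme n))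
        ((OX.pullStalkIso g' t).hom.naturality u').symm)).1 hm))
  obtain ⟨W, i, hi, ⟨w, hw⟩, r, hr⟩ := exists_split_of_stalk p' u' y l hl
  refine ⟨(i ≫ j).opensRange, ⟨w, ?_⟩, split_of_openImmersion (i ≫ j) u ?_⟩
  · rw [Scheme.Hom.comp_apply, hw, ← hg']
    rfl
  refine split_transfer (Scheme.Modules.restrictFunctorComp i j) u
    ⟨(Scheme.Modules.restrictFunctor i).map e.hom ≫ r, ?_⟩
  rw [Functor.comp_map, ← Category.assoc, ← Functor.map_comp]
  exact hr

/-- A family of morphisms that covers the points detects local splitting. -/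
theorem locSplit_of_family {F V : X.Modules} (u : F ⟶ V) (hF : Coh.IsQCoh F) (hFt : CohB1.IsFT F)
    (hV : FlatMod.IsFinLocFree V)
    (h : ∀ x : X, ∃ (Z : Scheme.{u}) (q : Z ⟶ X) (z : Z), q z = x ∧ LocSplit ((Scheme.Modules.pullback q).map u)) :
    LocSplit u := by
  intro x
  obtain ⟨Z, q, z, rfl, hz⟩ := h x
  obtain ⟨U, hU, hr⟩ := hz z
  let z' : U.toScheme := ⟨z, hU⟩
  let T := Spec (U.toScheme.residueField z')
  let g0 : T ⟶ U.toScheme := U.toScheme.fromSpecResidueField z'
  let t : T := IsLocalRing.closedPoint (U.toScheme.residueField z')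
  have hsplit : ∃ r, (Scheme.Modules.pullback (g0 ≫ U.ι ≫ q)).map u ≫ r = 𝟙 _ :=
    split_transfer ((Scheme.Modules.pullbackComp g0 (U.ι ≫ q)).symm ≪≫
      Functor.isoWhiskerRight (Scheme.Modules.pullbackComp U.ι q).symm _) u
      (split_map (Scheme.Modules.pullback g0) _ hr)
  have hmono : Mono ((OX.fib (g0 ≫ U.ι ≫ q) t).map u) := by
    obtain ⟨r, hr'⟩ := split_map (OX.stalk t) _ hsplit
    exact SplitMono.mono ⟨r, hr'⟩
  obtain ⟨W, hW, hres⟩ := exists_split_of_fib u hF hFt hV (g0 ≫ U.ι ≫ q) t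
    (isField_stalk_spec _ t) hmono
  refine ⟨W, ?_, hres⟩
  have ht : g0 t = z' := Scheme.fromSpecResidueField_apply _ _
  rw [Scheme.Hom.comp_apply, Scheme.Hom.comp_apply, ht] at hW
  exact hW

theorem tfae {S : Scheme.{u}} (f : X ⟶ S) {F V : X.Modules} (u : F ⟶ V)
    (hF : Coh.IsQCoh F) (hFt : CohB1.IsFT F) (hV : FlatMod.IsFinLocFree V) :
    [LocSplit u, ∀ s : S, LocSplit ((Scheme.Modules.pullback (f.fiberι s)).map u),
      ∀ s : S, LocSplit ((Scheme.Modules.pullback (pullback.fst f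
        (Spec.map (CommRingCat.ofHom (algebraMap (S.residueField s) (AlgebraicClosure (S.residueField s)))) ≫
          S.fromSpecResidueField s))).map u)].TFAE := by
  tfae_have 1 → 2 := fun h s => h.pullback _
  tfae_have 1 → 3 := fun h s => h.pullback _
  tfae_have 2 → 1 := fun h => locSplit_of_family u hF hFt hV fun x => by
    obtain ⟨z, hz⟩ := (f.range_fiberι (f x)).ge (rfl : x ∈ f ⁻¹' {f x})
    exact ⟨_, f.fiberι (f x), z, hz, h (f x)⟩
  tfae_have 3 → 1 := fun h => locSplit_of_family u hF hFt hV fun x => by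
    let a := Spec.map (CommRingCat.ofHom (algebraMap (S.residueField (f x)) (AlgebraicClosure (S.residueField (f x))))) ≫
      S.fromSpecResidueField (f x)
    have hx : x ∈ Set.range (pullback.fst f a) := by
      rw [Scheme.Pullback.range_fst]
      exact ⟨IsLocalRing.closedPoint (AlgebraicClosure (S.residueField (f x))),
        (Scheme.Hom.comp_apply _ _ _).trans (Scheme.fromSpecResidueField_apply _ _)⟩
    obtain ⟨z, hz⟩ := hx
    exact ⟨_, pullback.fst f a, z, hz, h (f x)⟩
  tfae_finish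

end GrothLib.LocSplitMono29
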